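import Cfsg.Agent.Core.Schmidt
import Cfsg.Agent.Core.Frattini
import Cfsg.Agent.FGS3.FixOrderFour
import Cfsg.Agent.FGS3.PGroupFrattini
import Mathlib.GroupTheory.Perm.Cycle.Type
import Mathlib.GroupTheory.SpecificGroups.Cyclic

/-! # `p`-groups with an automorphism fixing every proper invariant subgroup pointwise -/

set_option linter.style.haveILetI false
set_option linter.unusedSectionVars false

namespace Cfsg.Agent.FGS4.SchmidtSylow

open Subgroup
open scoped commutatorElement

/-- `P` carries the automorphism induced inside a minimal non-nilpotent group. -/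
structure SchmidtAut {P : Type*} [Group P] (p : ℕ) (α : MulAut P) : Prop where
  proper_fixed : ∀ N : Subgroup P, N ≠ ⊤ → (∀ a ∈ N, α a ∈ N) → ∀ a ∈ N, α a = a
  finite_order : ∃ q : ℕ, q.Prime ∧ q ≠ p ∧ ∀ a, (α ^ q) a = a
  nontrivial : ∃ a, α a ≠ a

theorem SchmidtAut.congr {P P' : Type*} [Group P] [Group P'] {p : ℕ} {α : MulAut P}
    (h : SchmidtAut p α) (e : P ≃* P') : SchmidtAut p ((e.symm.trans α).trans e) := by
  have hpow : ∀ (n : ℕ) (a : P'), (((e.symm.trans α).trans e : MulAut P') ^ n) a = e ((α ^ n) (e.symm a)) := by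
    intro n
    induction n with
    | zero => intro a; simp
    | succ n ih => intro a; simp [pow_succ', ih]
  refine ⟨fun N hN hinv a ha => ?_, ?_, ?_⟩
  · have hN' : N.comap e.toMonoidHom ≠ ⊤ := fun e' => hN (by
      rw [← Subgroup.map_comap_eq_self_of_surjective (f := e.toMonoidHom) e.surjective N, e',
        Subgroup.map_top_of_surjective _ e.surjective])
    have := h.proper_fixed _ hN' (fun b hb => ?_) (e.symm a) (by simpa using ha)
    · simp [this]
    · simpa using hinv (e b) hb
  · obtain ⟨q, hq, hqp, hfix⟩ := h.finite_order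
    exact ⟨q, hq, hqp, fun a => by rw [hpow, hfix, MulEquiv.apply_symm_apply]⟩
  · obtain ⟨a, ha⟩ := h.nontrivial
    exact ⟨e a, by simpa using ha⟩

variable {P : Type*} [Group P] [Finite P] {p : ℕ} [Fact p.Prime] {α : MulAut P}

theorem characteristic_invariant {N : Subgroup P} [hN : N.Characteristic] :
    ∀ a ∈ N, α a ∈ N := fun a ha => by
  have h := (Subgroup.characteristic_iff_comap_eq.1 hN α).ge ha
  exact h

theorem nontrivial_of (h : SchmidtAut p α) : Nontrivial P := by
  obtain ⟨a, ha⟩ := h.nontrivial
  exact ⟨α a, a, ha⟩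

/-- `P = [P, α]`. -/
theorem closure_eq_top (h : SchmidtAut p α) (hP : IsPGroup p P) :
    closure (Set.range fun a => a⁻¹ * α a) = ⊤ := by
  by_contra hne
  have hfix := h.proper_fixed _ hne (fun a ha => by
    have hle : closure (Set.range fun a => a⁻¹ * α a) ≤
        (closure (Set.range fun a => a⁻¹ * α a)).comap α.toMonoidHom := by
      rw [closure_le]
      rintro _ ⟨b, rfl⟩
      exact subset_closure ⟨α b, by simp⟩
    exact hle ha)
  obtain ⟨a, ha⟩ := h.nontrivial
  obtain ⟨q, hq, hqp, hq'⟩ := h.finite_order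
  set c := a⁻¹ * α a with hc
  have hcfix : α c = c := hfix c (subset_closure ⟨a, rfl⟩)
  have hpow : ∀ n : ℕ, (α ^ n) a = a * c ^ n := by
    intro n
    induction n with
    | zero => simp
    | succ n ih =>
      rw [pow_succ', MulAut.mul_apply, ih, map_mul, map_pow, hcfix, pow_succ', ← mul_assoc, hc,
        mul_inv_cancel_left]
  have hcq : c ^ q = 1 := by
    have := hpow q
    rw [hq'] at this
    exact mul_eq_left.1 this.symm
  obtain ⟨k, hk⟩ := hP c
  have hc1 : c = 1 := by
    rw [← orderOf_eq_one_iff]
    refine Nat.eq_one_of_dvd_coprimes ?_ (orderOf_dvd_of_pow_eq_one hcq) (orderOf_dvd_of_pow_eq_one hk)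
    exact ((Nat.coprime_primes hq Fact.out).2 hqp).pow_right k
  exact ha (inv_mul_eq_one.1 hc1).symm

theorem le_center_of_normal (h : SchmidtAut p α) (hP : IsPGroup p P) {N : Subgroup P} [hN : N.Normal]
    (hne : N ≠ ⊤) (hinv : ∀ a ∈ N, α a ∈ N) : N ≤ center P := by
  intro n hn
  have hfix := h.proper_fixed N hne hinv
  rw [mem_center_iff]
  have hle : closure (Set.range fun a => a⁻¹ * α a) ≤ centralizer {n} := by
    rw [closure_le]
    rintro _ ⟨g, rfl⟩
    rw [SetLike.mem_coe, mem_centralizer_singleton_iff]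
    have h1 := hfix _ (hN.conj_mem n hn g)
    rw [map_mul, map_mul, map_inv, hfix n hn] at h1
    calc g⁻¹ * α g * n = g⁻¹ * (α g * n * (α g)⁻¹) * α g := by group
      _ = g⁻¹ * (g * n * g⁻¹) * α g := by rw [h1]
      _ = n * (g⁻¹ * α g) := by group
  rw [closure_eq_top h hP] at hle
  intro g
  exact mem_centralizer_singleton_iff.1 (hle (mem_top g))

theorem commutator_ne_top (h : SchmidtAut p α) (hP : IsPGroup p P) : commutator P ≠ ⊤ := by
  haveI := nontrivial_of h
  haveI := hP.isNilpotent
  exact (Group.IsSolvable.commutator_lt_top_of_nontrivial P).ne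

theorem commutator_le_center (h : SchmidtAut p α) (hP : IsPGroup p P) : commutator P ≤ center P :=
  le_center_of_normal h hP (commutator_ne_top h hP) characteristic_invariant

theorem commutator_fixed (h : SchmidtAut p α) (hP : IsPGroup p P) : ∀ a ∈ commutator P, α a = a :=
  h.proper_fixed _ (commutator_ne_top h hP) characteristic_invariant

theorem pow_mem_center (h : SchmidtAut p α) (hP : IsPGroup p P) (a : P) : a ^ p ∈ center P := by
  haveI := nontrivial_of h
  have hne : frattini P ≠ ⊤ := by
    obtain ⟨M, hM, -⟩ := (eq_top_or_exists_le_coatom (⊥ : Subgroup P)).resolve_left bot_ne_top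
    exact fun e => hM.1 (top_le_iff.1 (e ▸ (frattini_le_coatom hM)))
  exact le_center_of_normal h hP hne characteristic_invariant (FGS3.pow_mem_frattini hP a)

theorem center_fixed (h : SchmidtAut p α) (hnc : center P ≠ ⊤) : ∀ a ∈ center P, α a = a :=
  h.proper_fixed _ hnc characteristic_invariant

theorem center_le_commutator (h : SchmidtAut p α) (hP : IsPGroup p P) (hnc : center P ≠ ⊤) :
    center P ≤ commutator P := by
  let f : Abelianization P →* Abelianization P :=
    (MonoidHom.id (Abelianization P))⁻¹ * Abelianization.map α.toMonoidHom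
  have hf : ∀ a, f (Abelianization.of a) = Abelianization.of (a⁻¹ * α a) := fun a => by
    simp [f, Abelianization.map_of]
  have hsurj : Function.Surjective f := by
    rw [← MonoidHom.range_eq_top, eq_top_iff]
    intro x _
    obtain ⟨a, rfl⟩ := QuotientGroup.mk_surjective x
    have hle : closure (Set.range fun a => a⁻¹ * α a) ≤ f.range.comap Abelianization.of := by
      rw [closure_le]
      rintro _ ⟨b, rfl⟩
      exact ⟨Abelianization.of b, hf b⟩
    rw [closure_eq_top h hP] at hle
    exact hle (mem_top a)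
  haveI : Finite (Abelianization P) := inferInstanceAs (Finite (P ⧸ commutator P))
  have hinj := Finite.injective_iff_surjective.2 hsurj
  intro z hz
  have h1 : f (Abelianization.of z) = f 1 := by
    rw [hf, center_fixed h hnc z hz, inv_mul_cancel, map_one, map_one]
  exact (QuotientGroup.eq_one_iff z).1 (hinj h1)

theorem commutator_le_of_mem (h : SchmidtAut p α) (hP : IsPGroup p P) {r : P} (hr : r ∉ center P)
    {M : Subgroup P} (hMc : M ≤ commutator P) (hM : ∀ a, ⁅r, a⁆ ∈ M) : commutator P ≤ M := by
  haveI : M.Normal := by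
    refine ⟨fun m hm g => ?_⟩
    rw [mem_center_iff.1 (commutator_le_center h hP (hMc hm)) g, mul_inv_cancel_right]
    exact hm
  set T := (center (P ⧸ M)).comap (QuotientGroup.mk' M) with hT
  have hmem : ∀ t, t ∈ T ↔ ∀ a, ⁅t, a⁆ ∈ M := fun t => by
    rw [hT, mem_comap, mem_center_iff]
    constructor
    · intro ht a
      rw [← QuotientGroup.ker_mk' M, MonoidHom.mem_ker, map_commutatorElement,
        commutatorElement_eq_one_iff_mul_comm]
      exact (ht _).symm
    · intro ht x
      obtain ⟨a, rfl⟩ := QuotientGroup.mk'_surjective M x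
      have := ht a
      rw [← QuotientGroup.ker_mk' M, MonoidHom.mem_ker, map_commutatorElement,
        commutatorElement_eq_one_iff_mul_comm] at this
      exact this.symm
  by_cases htop : T = ⊤
  · rw [commutator_def, commutator_le]
    intro a _ b _
    exact (hmem a).1 (htop ▸ mem_top a) b
  · refine absurd (le_center_of_normal h hP htop (fun t ht => (hmem _).2 fun a => ?_) ((hmem r).2 hM)) hr
    obtain ⟨b, rfl⟩ := α.surjective a
    rw [← map_commutatorElement, commutator_fixed h hP _ (hMc ((hmem t).1 ht b))]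
    exact (hmem t).1 ht b

/-- Elements outside the centre are moved modulo the centre. -/
theorem not_mem_center_of_moved (h : SchmidtAut p α) (hP : IsPGroup p P) (hnc : center P ≠ ⊤) {a : P}
    (ha : a ∉ center P) : a⁻¹ * α a ∉ center P := by
  intro hmem
  set π := QuotientGroup.mk' (center P) with hπ
  set T := π.eqLocus (π.comp α.toMonoidHom) with hT
  have hmemT : ∀ b, b ∈ T ↔ b⁻¹ * α b ∈ center P := fun b => QuotientGroup.eq
  haveI : T.Normal := by
    refine ⟨fun b hb g => ?_⟩
    have hc : ⁅g, b⁆ ∈ T := by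
      rw [hmemT, commutator_fixed h hP _ (commutator_mem_commutator (mem_top g) (mem_top b)),
        inv_mul_cancel]
      exact one_mem _
    have := mul_mem hc hb
    rwa [commutatorElement_def, inv_mul_cancel_right] at this
  by_cases htop : T = ⊤
  · have hle : closure (Set.range fun a => a⁻¹ * α a) ≤ center P := by
      rw [closure_le]
      rintro _ ⟨b, rfl⟩
      exact (hmemT b).1 (htop ▸ mem_top b)
    rw [closure_eq_top h hP] at hle
    exact hnc (top_le_iff.1 hle)
  · refine ha (le_center_of_normal h hP htop (fun b hb => (hmemT _).2 ?_) ((hmemT a).2 hmem))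
    have hz := (hmemT b).1 hb
    rw [← map_inv, ← map_mul, center_fixed h hnc _ hz]
    exact hz

theorem alpha_not_mem_center (h : SchmidtAut p α) (hnc : center P ≠ ⊤) {a : P} (ha : a ∉ center P) :
    α a ∉ center P := fun hm => ha (by
  have := α.injective (center_fixed h hnc _ hm)
  rwa [this] at hm)

/-- No `SchmidtAut` for nonabelian groups with the configuration found in a counterexample. -/
theorem false_of_config (h : SchmidtAut p α) (hP : IsPGroup p P)
    (hcard : Nat.card (P ⧸ center P) = p ^ 2) {R : Subgroup P} (hRtop : R ≠ ⊤) (hZR : center P ≤ R)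
    {r : P} (hrR : r ∈ R) (hr : r ∉ center P) (hexp : p = 2 → ∀ t ∈ R, t * t = 1)
    (hp : p = 2 ∨ p = 3) : False := by
  classical
  have hnc : center P ≠ ⊤ := fun e => hr (e ▸ mem_top r)
  set π := QuotientGroup.mk' (center P) with hπ
  have hker : ∀ a : P, π a = 1 ↔ a ∈ center P := fun a => QuotientGroup.eq_one_iff a
  have heq : ∀ a b : P, π a = π b ↔ a⁻¹ * b ∈ center P := fun a b => QuotientGroup.eq
  have hcomm : ∀ a b : P, π a * π b = π b * π a := fun a b => by
    rw [← commutatorElement_eq_one_iff_mul_comm, ← map_commutatorElement, hker]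
    exact commutator_le_center h hP (commutator_mem_commutator (mem_top a) (mem_top b))
  have hmoved : ∀ a : P, π (α a) = π a → a ∈ center P := fun a e => by
    by_contra ha
    exact not_mem_center_of_moved h hP hnc ha ((heq _ _).1 e.symm)
  have halpha : ∀ a b : P, π a = π b → π (α a) = π (α b) := fun a b e => by
    rw [heq] at e ⊢
    rw [← map_inv, ← map_mul, center_fixed h hnc _ e]
    exact e
  rcases hp with rfl | rfl
  · -- all non-central cosets consist of involutions
    have hsq : ∀ t ∈ R, π t * π t = 1 := fun t ht => by rw [← map_mul, hexp rfl t ht, map_one]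
    have h1 : π r ≠ 1 := fun e => hr ((hker r).1 e)
    have h2 : π (α r) ≠ 1 := fun e => alpha_not_mem_center h hnc hr ((hker _).1 e)
    have h3 : π (α (α r)) ≠ 1 := fun e =>
      alpha_not_mem_center h hnc (alpha_not_mem_center h hnc hr) ((hker _).1 e)
    have h12 : π (α r) ≠ π r := fun e => hr (hmoved r e)
    have h23 : π (α (α r)) ≠ π (α r) := fun e => alpha_not_mem_center h hnc hr (hmoved _ e)
    have h13 : π (α (α r)) ≠ π r := by
      intro e
      have hu : r * α r ∈ center P := hmoved _ (by rw [map_mul α, map_mul, map_mul, e, hcomm])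
      rw [← hker, map_mul] at hu
      exact h12 (mul_left_cancel (hu.trans (hsq r hrR).symm))
    have : Fintype (P ⧸ center P) := Fintype.ofFinite _
    have hall : ({1, π r, π (α r), π (α (α r))} : Finset (P ⧸ center P)) = Finset.univ := by
      refine Finset.eq_univ_of_card _ ?_
      rw [← Nat.card_eq_fintype_card, hcard, Finset.card_insert_of_notMem (by simp [h1.symm, h2.symm, h3.symm]),
        Finset.card_insert_of_notMem (by simp [h12.symm, h13.symm]),
        Finset.card_insert_of_notMem (by simp [h23.symm]), Finset.card_singleton]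
      rfl
    have hinv : ∀ a : P, a * a = 1 := by
      have key : ∀ (a t : P), t * t = 1 → π a = π t → a * a = 1 := by
        intro a t ht e
        have hz := (heq t a).1 e.symm
        have hz2 : (t⁻¹ * a) * (t⁻¹ * a) = 1 := hexp rfl _ (hZR hz)
        obtain ⟨z, hz', hza⟩ : ∃ z, z ∈ center P ∧ a = t * z :=
          ⟨_, hz, (mul_inv_cancel_left t a).symm⟩
        subst hza
        rw [inv_mul_cancel_left] at hz2
        calc t * z * (t * z) = t * (z * t) * z := by group
          _ = t * (t * z) * z := by rw [← mem_center_iff.1 hz' t]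
          _ = (t * t) * (z * z) := by group
          _ = 1 := by rw [ht, hz2, one_mul]
      intro a
      have hmem := Finset.mem_univ (π a)
      rw [← hall] at hmem
      simp only [Finset.mem_insert, Finset.mem_singleton] at hmem
      have hr2 := hexp rfl r hrR
      rcases hmem with e | e | e | e
      · exact hexp rfl a (hZR ((hker a).1 e))
      · exact key a r hr2 e
      · exact key a (α r) (by rw [← map_mul, hr2, map_one]) e
      · exact key a (α (α r)) (by rw [← map_mul, ← map_mul, hr2, map_one, map_one]) e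
    refine hr (mem_center_iff.2 fun g => ?_)
    have e := hinv (g * r)
    calc g * r = (g * r)⁻¹ := (inv_eq_of_mul_eq_one_right e).symm
      _ = r⁻¹ * g⁻¹ := mul_inv_rev _ _
      _ = r * g := by rw [inv_eq_of_mul_eq_one_right (hinv r), inv_eq_of_mul_eq_one_right (hinv g)]
  · -- the automorphism inverts the quotient, so `R` is invariant
    obtain ⟨q, hq, hq3, hqfix⟩ := h.finite_order
    have hle : center P ≤ (center P).comap α.toMonoidHom := fun a ha => characteristic_invariant a ha
    let f : (P ⧸ center P) →* (P ⧸ center P) := QuotientGroup.map _ _ α.toMonoidHom hle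
    have hf : ∀ a, f (π a) = π (α a) := fun a => QuotientGroup.map_mk' _ _ _ hle a
    have hfb : Function.Bijective f := by
      refine Function.Surjective.bijective_of_finite fun x => ?_
      obtain ⟨a, rfl⟩ := QuotientGroup.mk'_surjective _ x
      exact ⟨π (α.symm a), by rw [hf, MulEquiv.apply_symm_apply]⟩
    let σ : Equiv.Perm (P ⧸ center P) := Equiv.ofBijective f hfb
    have hσ : ∀ (n : ℕ) (a : P), (σ ^ n) (π a) = π ((α ^ n) a) := by
      intro n
      induction n with
      | zero => intro a; simp
      | succ n ih =>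
        intro a
        rw [pow_succ', pow_succ', Equiv.Perm.mul_apply, ih, MulAut.mul_apply]
        exact hf _
    have hσq : σ ^ q ^ 1 = 1 := Equiv.ext fun x => by
      obtain ⟨a, rfl⟩ := QuotientGroup.mk'_surjective _ x
      rw [pow_one, hσ, hqfix, Equiv.Perm.one_apply]
    have : Fintype (P ⧸ center P) := Fintype.ofFinite _
    haveI := Fact.mk hq
    have hmod := Equiv.Perm.card_compl_support_modEq hσq
    have hsupp : σ.supportᶜ = {1} := by
      ext x
      obtain ⟨a, rfl⟩ := QuotientGroup.mk'_surjective _ x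
      rw [Finset.mem_compl, Equiv.Perm.notMem_support, Finset.mem_singleton, hker]
      show f (π a) = π a ↔ _
      rw [hf]
      refine ⟨hmoved a, fun ha => ?_⟩
      rw [center_fixed h hnc a ha]
    rw [hsupp, Finset.card_singleton, ← Nat.card_eq_fintype_card, hcard] at hmod
    have hq8 : q ∣ 2 ^ 3 := (Nat.modEq_iff_dvd' (by norm_num)).1 hmod
    obtain rfl : q = 2 := (Nat.prime_dvd_prime_iff_eq hq Nat.prime_two).1 (hq.dvd_of_dvd_pow hq8)
    have hinvert : ∀ t : P, t * α t ∈ center P := by
      intro t
      refine hmoved _ ?_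
      have h2 : α (α t) = t := by
        have := hqfix t
        rwa [pow_two, MulAut.mul_apply] at this
      rw [map_mul α, h2, map_mul, map_mul, hcomm]
    haveI : R.Normal := by
      refine ⟨fun b hb g => ?_⟩
      have := mul_mem (hZR (commutator_le_center h hP
        (commutator_mem_commutator (mem_top g) (mem_top b)))) hb
      rwa [commutatorElement_def, inv_mul_cancel_right] at this
    refine hr (le_center_of_normal h hP hRtop (fun t ht => ?_) hrR)
    have := mul_mem (inv_mem ht) (hZR (hinvert t))
    rwa [inv_mul_cancel_left] at this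

/-- The automorphism of the normal Sylow subgroup of a minimal non-nilpotent group. -/
theorem exists_schmidtAut {X : Type*} [Group X] [Finite X] (hX : Cfsg.IsMinimalNonNilpotent X)
    (P : Sylow p X) (hPn : (P : Subgroup X).Normal) (hP1 : (P : Subgroup X) ≠ ⊥) :
    ∃ α : MulAut (P : Subgroup X), SchmidtAut p α := by
  obtain ⟨hnn, hprop⟩ := id hX
  obtain ⟨a, b, ha, hb, hab, A, B, hAc, hAn, hBn, hsup, -⟩ :=
    Core.exists_structure_of_isMinimalNonNilpotent hX
  haveI := Fact.mk ha
  haveI := Fact.mk hb
  have hpa : p ≠ a := by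
    rintro rfl
    obtain ⟨g, rfl⟩ := MulAction.exists_smul_eq X P A
    apply hAn
    rw [Sylow.coe_subgroup_smul]
    exact Subgroup.Normal.map hPn (MulAut.conj g).toMonoidHom (MulAut.conj g).surjective
  haveI := hBn
  have hdvd : p ∣ Nat.card (P : Subgroup X) := by
    obtain ⟨k, hk⟩ := IsPGroup.iff_card.1 P.isPGroup'
    rw [hk]
    refine dvd_pow_self p fun hk0 => hP1 ?_
    rw [hk0, pow_zero] at hk
    exact Subgroup.card_eq_one.1 hk
  have hpb : p = b := by
    by_contra hne
    obtain ⟨i, hi⟩ := IsPGroup.iff_card.1 A.isPGroup'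
    obtain ⟨j, hj⟩ := IsPGroup.iff_card.1 B.isPGroup'
    have hX' : Nat.card X ∣ Nat.card (A : Subgroup X) * Nat.card (B : Subgroup X) := by
      rw [← Subgroup.card_top (G := X), ← hsup]
      have hle : (A : Subgroup X) ≤ normalizer ((B : Subgroup X) : Set X) := by
        rw [normalizer_eq_top]; exact le_top
      rw [sup_comm (A : Subgroup X), Coprime.card_sup hle ((IsPGroup.disjoint_of_ne b a hab.symm _ _ B.isPGroup' A.isPGroup').eq_bot)]
      exact dvd_of_eq (mul_comm _ _)
    have hd := (hdvd.trans (Subgroup.card_subgroup_dvd_card _)).trans hX'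
    rw [hi, hj] at hd
    rcases (Fact.out : p.Prime).dvd_mul.1 hd with hd | hd
    · exact hpa ((Nat.prime_dvd_prime_iff_eq Fact.out ha).1 ((Fact.out : p.Prime).dvd_of_dvd_pow hd))
    · exact hne ((Nat.prime_dvd_prime_iff_eq Fact.out hb).1 ((Fact.out : p.Prime).dvd_of_dvd_pow hd))
  subst hpb
  have hPB : (P : Subgroup X) = B := by
    haveI := B.unique_of_normal hBn
    rw [Subsingleton.elim P B]
  haveI : (P : Subgroup X).Normal := hPn
  have hsup' : (A : Subgroup X) ⊔ P = ⊤ := by rw [hPB]; exact hsup
  obtain ⟨⟨y, hy⟩, hgen⟩ := hAc.exists_generator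
  have hA : (A : Subgroup X) = zpowers y := by
    refine le_antisymm (fun z hz => ?_) (zpowers_le.2 hy)
    obtain ⟨i, hi⟩ := mem_zpowers_iff.1 (hgen ⟨z, hz⟩)
    exact mem_zpowers_iff.2 ⟨i, by simpa using congrArg Subtype.val hi⟩
  have hdisj : (A : Subgroup X) ⊓ P = ⊥ :=
    (IsPGroup.disjoint_of_ne a p hpa.symm _ _ A.isPGroup' P.isPGroup').eq_bot
  -- an invariant subgroup gives a proper nilpotent subgroup
  have key : ∀ N : Subgroup X, N ≤ P → ∀ z ∈ (A : Subgroup X), N ⊔ zpowers z ≠ ⊤ →
      ∀ u ∈ N, z * u = u * z := fun N hN z hz hne u hu =>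
    Core.commute_of_mem_nilpotent (hprop _ hne) le_sup_right le_sup_left hpa.symm
      (A.isPGroup'.to_le (zpowers_le.2 hz)) (P.isPGroup'.to_le hN) (mem_zpowers z) hu
  refine ⟨MulAut.conjNormal y, ?_, ⟨a, ha, hpa.symm, fun u => ?_⟩, ?_⟩
  · intro N hN hinv u hu
    have hy' : y ∈ normalizer ((N.map (P : Subgroup X).subtype : Subgroup X) : Set X) := by
      refine mem_normalizer_iff_map_conj_eq.2 (eq_of_le_of_card_ge ?_ ?_)
      · rintro _ ⟨_, ⟨v, hv, rfl⟩, rfl⟩
        exact ⟨_, hinv v hv, by simp⟩
      · exact le_of_eq (Subgroup.card_map_of_injective (MulAut.conj y).injective).symm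
    have hne : N.map (P : Subgroup X).subtype ⊔ zpowers y ≠ ⊤ := by
      intro e
      apply hN
      rw [eq_top_iff]
      intro v _
      have hle : zpowers y ≤ normalizer ((N.map (P : Subgroup X).subtype : Subgroup X) : Set X) :=
        zpowers_le.2 hy'
      have hv : (v : X) ∈ ((N.map (P : Subgroup X).subtype ⊔ zpowers y : Subgroup X) : Set X) :=
        e ▸ mem_top _
      rw [coe_mul_of_right_le_normalizer_left _ _ hle] at hv
      obtain ⟨_, ⟨w, hw, rfl⟩, z, hz, hwz⟩ := Set.mem_mul.1 hv
      have hz' : z ∈ (A : Subgroup X) ⊓ P := Subgroup.mem_inf.2 ⟨hA ▸ hz, by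
        rw [show z = (P : Subgroup X).subtype w⁻¹ * v by rw [← hwz]; simp]
        exact mul_mem w⁻¹.2 v.2⟩
      rw [hdisj, mem_bot] at hz'
      rw [hz', mul_one] at hwz
      exact (Subtype.ext hwz : w = v) ▸ hw
    apply Subtype.ext
    rw [MulAut.conjNormal_apply, key _ (Subgroup.map_subtype_le _) y hy hne u ⟨u, hu, rfl⟩,
      mul_inv_cancel_right]
  · rw [← map_pow]
    apply Subtype.ext
    rw [MulAut.conjNormal_apply]
    have hne : (P : Subgroup X) ⊔ zpowers (y ^ a) ≠ ⊤ := by
      intro e
      have hy1 : y ∈ ((P : Subgroup X) ⊔ zpowers (y ^ a) : Subgroup X) := e ▸ mem_top y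
      obtain ⟨w, hw, z, hz, hwz⟩ := mem_sup_of_normal_left.1 hy1
      have hw' : w ∈ (A : Subgroup X) ⊓ P := Subgroup.mem_inf.2 ⟨by
        rw [show w = y * z⁻¹ by rw [← hwz, mul_inv_cancel_right]]
        exact mul_mem hy (inv_mem (zpowers_le.2 (pow_mem hy a) hz)), hw⟩
      rw [hdisj, mem_bot] at hw'
      rw [hw', one_mul] at hwz
      obtain ⟨i, hi⟩ := mem_zpowers_iff.1 hz
      have hAne : (A : Subgroup X) ≠ ⊥ := fun e' => hAn (e' ▸ inferInstance)
      obtain ⟨k, hk⟩ := A.isPGroup' ⟨y, hy⟩
      have hk' : y ^ a ^ k = 1 := congrArg Subtype.val hk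
      obtain ⟨j, -, hj⟩ := (Nat.dvd_prime_pow ha).1 (orderOf_dvd_of_pow_eq_one hk')
      have hj0 : j ≠ 0 := by
        rintro rfl
        rw [pow_zero, orderOf_eq_one_iff] at hj
        exact hAne (by rw [hA, hj, zpowers_one_eq_bot])
      have hd : (orderOf y : ℤ) ∣ (a : ℤ) * i - 1 := by
        rw [orderOf_dvd_iff_zpow_eq_one, zpow_sub, zpow_mul, zpow_natCast, hi, hwz, zpow_one,
          mul_inv_cancel]
      rw [hj] at hd
      have h1 : (a : ℤ) ∣ 1 := by
        have h2 : (a : ℤ) ∣ (a : ℤ) * i - 1 :=
          dvd_trans (by exact_mod_cast dvd_pow_self a hj0) hd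
        have := dvd_sub (dvd_mul_right (a : ℤ) i) h2
        simpa using this
      have := Int.eq_one_of_dvd_one (Int.natCast_nonneg a) h1
      exact ha.ne_one (by exact_mod_cast this)
    rw [key _ le_rfl _ (pow_mem hy a) hne u u.2, mul_inv_cancel_right]
  · by_contra hall
    push Not at hall
    apply hAn
    rw [← normalizer_eq_top_iff, eq_top_iff, ← hsup', sup_le_iff]
    refine ⟨le_normalizer, le_trans (fun u hu => ?_) (centralizer_le_normalizer _)⟩
    rw [hA, mem_centralizer_iff]
    intro z hz
    obtain ⟨i, rfl⟩ := mem_zpowers_iff.1 hz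
    have h1 : Commute y u := by
      have := congrArg Subtype.val (hall ⟨u, hu⟩)
      rw [MulAut.conjNormal_apply, mul_inv_eq_iff_eq_mul] at this
      exact this
    exact (h1.zpow_left i).eq

end Cfsg.Agent.FGS4.SchmidtSylow
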