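import Cfsg.Agent.FGS4.SchmidtSylow.Abstract
import Cfsg.Agent.Coprime.Generation
import Cfsg.Agent.Coprime.PxQ
import Cfsg.Agent.Dickson.PSolvable
import Cfsg.Agent.Core.PLength

/-! # `p`-solvable groups with a Sylow subgroup of Schmidt type have `p`-length at most one -/

set_option linter.style.haveILetI false
set_option linter.unusedSectionVars false

namespace Cfsg.Agent.FGS4.SchmidtSylow

open Subgroup Cfsg
open scoped commutatorElement

universe u

variable {p : ℕ} [Fact p.Prime]

/-- Stability group: `x` centralizing a chain `1 ≤ M ≤ R` lies in `R`. -/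
theorem mem_of_stabilizes {G : Type*} [Group G] [Finite G] {R M : Subgroup G} [R.Normal] [M.Normal]
    (hR : R = pCore p G) (hC : centralizer (R : Set G) ≤ R) (hMR : M ≤ R) {x : G}
    (hx1 : ∀ r ∈ R, ⁅r, x⁆ ∈ M) (hx2 : ∀ m ∈ M, m * x = x * m) : x ∈ R := by
  set π := QuotientGroup.mk' M with hπ
  haveI : (R.map π).Normal := Subgroup.Normal.map inferInstance π (QuotientGroup.mk'_surjective M)
  set K := centralizer (M : Set G) ⊓ (centralizer ((R.map π : Subgroup (G ⧸ M)) : Set (G ⧸ M))).comap π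
    with hK
  have hKn : K.Normal := inferInstance
  have hRp : IsPGroup p R := hR ▸ Core.isPGroup_pCore p G
  have hmemK : ∀ g, g ∈ K → (∀ r ∈ R, ⁅r, g⁆ ∈ M) ∧ ∀ m ∈ M, m * g = g * m := by
    intro g hg
    obtain ⟨h1, h2⟩ := Subgroup.mem_inf.1 hg
    refine ⟨fun r hr => ?_, fun m hm => mem_centralizer_iff.1 h1 m hm⟩
    rw [← QuotientGroup.ker_mk' M, MonoidHom.mem_ker, map_commutatorElement,
      commutatorElement_eq_one_iff_mul_comm]
    exact mem_centralizer_iff.1 (mem_comap.1 h2) _ ⟨r, hr, rfl⟩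
  have hxK : x ∈ K := by
    refine Subgroup.mem_inf.2 ⟨mem_centralizer_iff.2 hx2, mem_comap.2 (mem_centralizer_iff.2 ?_)⟩
    rintro _ ⟨r, hr, rfl⟩
    rw [← commutatorElement_eq_one_iff_mul_comm, ← map_commutatorElement, ← MonoidHom.mem_ker, hπ,
      QuotientGroup.ker_mk']
    exact hx1 r hr
  have hKp : IsPGroup p K := by
    suffices hall : ∀ {t : ℕ}, t.Prime → t ∣ Nat.card K → t = p from
      IsPGroup.of_card (Nat.eq_prime_pow_of_unique_prime_dvd (Nat.card_pos (α := K)).ne' hall)
    intro t ht htd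
    by_contra htp
    haveI := Fact.mk ht
    obtain ⟨⟨g, hg⟩, hgo⟩ := exists_prime_orderOf_dvd_card' (G := K) t htd
    rw [Subgroup.orderOf_mk] at hgo
    obtain ⟨hg1, hg2⟩ := hmemK g hg
    have hgR : g ∈ R := by
      refine hC ?_
      have hnorm : zpowers g ≤ normalizer (R : Set G) := by rw [normalizer_eq_top]; exact le_top
      have hcop : (Nat.card (zpowers g)).Coprime (Nat.card R) := by
        obtain ⟨k, hk⟩ := IsPGroup.iff_card.1 hRp
        rw [Nat.card_zpowers, hgo, hk]
        exact ((Nat.coprime_primes ht Fact.out).2 htp).pow_right k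
      have hNM : ⁅R, zpowers g⁆ ≤ M := by
        rw [commutator_le]
        intro r hr y hy
        exact (hmemK y ((zpowers_le.2 hg) hy)).1 r hr
      have hM : ⁅M, zpowers g⁆ = ⊥ := by
        rw [eq_bot_iff, commutator_le]
        intro m hm y hy
        rw [mem_bot, commutatorElement_eq_one_iff_mul_comm]
        exact (hmemK y ((zpowers_le.2 hg) hy)).2 m hm
      have := Coprime.commutator_eq_bot_of_chain hnorm hcop hNM hM
      rw [commutator_eq_bot_iff_le_centralizer] at this
      exact mem_centralizer_iff.2 fun r hr => (mem_centralizer_iff.1 (this hr) g (mem_zpowers g)).symm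
    obtain ⟨k, hk⟩ := hRp ⟨g, hgR⟩
    have hk' : g ^ p ^ k = 1 := congrArg Subtype.val hk
    exact htp ((Nat.prime_dvd_prime_iff_eq ht Fact.out).1
      (ht.dvd_of_dvd_pow (hgo ▸ orderOf_dvd_of_pow_eq_one hk')))
  have := Core.le_pCore hKn hKp hxK
  rwa [← hR] at this

/-- A Sylow subgroup containing the Sylow subgroup of a `p`-constrained core, cut down to a subgroup. -/
theorem pPrimeCore_eq_bot_of_le {G : Type*} [Group G] [Finite G] {R H : Subgroup G} [R.Normal]
    (hRp : IsPGroup p R) (hC : centralizer (R : Set G) ≤ R) (hle : R ≤ H) :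
    pPrimeCore p H = ⊥ := by
  have hR' : R.subgroupOf H ≤ pCore p H :=
    Core.le_pCore inferInstance (hRp.of_equiv (subgroupOfEquivOfLe hle).symm)
  rw [← Subgroup.card_eq_one]
  have h1 : pPrimeCore p H ≤ R.subgroupOf H := by
    intro h hh
    refine mem_subgroupOf.2 (hC (mem_centralizer_iff.2 fun r hr => ?_))
    have := Core.pCore_le_centralizer_pPrimeCore p H (hR' (show (⟨r, hle hr⟩ : H) ∈ R.subgroupOf H from hr))
    exact (congrArg Subtype.val (mem_centralizer_iff.1 this h hh)).symm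
  obtain ⟨k, hk⟩ := IsPGroup.iff_card.1 (hRp.of_equiv (subgroupOfEquivOfLe hle).symm)
  refine Nat.eq_one_of_dvd_coprimes ((Core.card_pPrimeCore_coprime p H).pow_right k) dvd_rfl ?_
  rw [← hk]
  exact card_dvd_of_le h1

/-- Configuration of a minimal counterexample: `P / R` has order `p`, generated by `x`. -/
theorem false_of_core {G : Type*} [Group G] [Finite G] (hG : IsPSolvable p G) (h0 : pPrimeCore p G = ⊥)
    (P : Sylow p G) {α : MulAut (P : Subgroup G)} (hα : SchmidtAut p α) {x : G} (hxP : x ∈ P)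
    (hxR : x ∉ pCore p G) (hxp : x ^ p ∈ pCore p G)
    (hgen : ∀ a ∈ P, ∃ i : ℤ, a * x ^ i ∈ pCore p G) : False := by
  set R := pCore p G with hR
  have hC : centralizer (R : Set G) ≤ R := Core.centralizer_pCore_le hG h0
  have hRP : R ≤ P := Core.pCore_le_sylow P
  have hRp : IsPGroup p R := Core.isPGroup_pCore p G
  have hP := P.isPGroup'
  have hnc : center (P : Subgroup G) ≠ ⊤ := by
    intro e
    refine hxR (hC (mem_centralizer_iff.2 fun r hr => ?_))
    exact (congrArg Subtype.val (mem_center_iff.1 (e ▸ mem_top (⟨r, hRP hr⟩ : (P : Subgroup G)))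
      ⟨x, hxP⟩)).symm
  have hcc := commutator_le_center hα hP
  -- the commutator subgroup and the centre of `P`, inside `G`
  set D := (commutator (P : Subgroup G)).map (P : Subgroup G).subtype with hD
  set Z := (center (P : Subgroup G)).map (P : Subgroup G).subtype with hZ
  have hZR : Z ≤ R := by
    rintro _ ⟨z, hz, rfl⟩
    exact hC (mem_centralizer_iff.2 fun r hr => congrArg Subtype.val (mem_center_iff.1 hz ⟨r, hRP hr⟩))
  have hDZ : D ≤ Z := Subgroup.map_mono hcc
  have hmemD : ∀ a ∈ P, ∀ b ∈ P, ⁅a, b⁆ ∈ D := fun a ha b hb =>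
    ⟨⁅(⟨a, ha⟩ : (P : Subgroup G)), ⟨b, hb⟩⁆, commutator_mem_commutator (mem_top _) (mem_top _),
      map_commutatorElement _ _ _⟩
  have hZcomm : ∀ z ∈ Z, ∀ a ∈ P, z * a = a * z := by
    rintro _ ⟨z, hz, rfl⟩ a ha
    exact (congrArg Subtype.val (mem_center_iff.1 hz ⟨a, ha⟩)).symm
  by_cases hp5 : 5 ≤ p
  · -- `x` acts quadratically
    refine hxR ?_
    have hno := Dickson.no_section_of_isPSolvable hp5 hG
    have hq : ⁅⁅R, zpowers x⁆, zpowers x⁆ = ⊥ := by
      have hle : ⁅R, zpowers x⁆ ≤ Z := by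
        rw [commutator_le]
        exact fun r hr y hy => hDZ (hmemD r (hRP hr) y ((zpowers_le.2 hxP) hy))
      rw [eq_bot_iff, commutator_le]
      intro u hu y hy
      rw [mem_bot, commutatorElement_eq_one_iff_mul_comm]
      exact hZcomm u (hle hu) y ((zpowers_le.2 hxP) hy)
    have h := Dickson.isPStableOn_of_no_section (by omega : p ≠ 2) hno R hRp x hq
    have hN : ((pCore p (G ⧸ centralizer (R : Set G))).comap
        (QuotientGroup.mk' (centralizer (R : Set G)))) ≤ R := by
      rw [Core.comap_pCore_quotient _ (hRp.to_le hC)]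
    exact hN h
  have hp23 : p = 2 ∨ p = 3 := by
    have h2 := (Fact.out : p.Prime).two_le
    have h4 : p ≠ 4 := fun e => absurd (e ▸ (Fact.out : p.Prime)) (by norm_num)
    omega
  -- the centre is not normal
  have hkey : ∀ r : G, r ∈ R → r ∉ Z → (∀ s ∈ R, r * s = s * r) →
      D = zpowers ⁅r, x⁆ ∧ ⁅r, x⁆ ^ p = 1 := by
    intro r hr hrZ hrR
    have hr' : (⟨r, hRP hr⟩ : (P : Subgroup G)) ∉ center (P : Subgroup G) := fun h => hrZ ⟨_, h, rfl⟩
    set c : (P : Subgroup G) := ⁅(⟨r, hRP hr⟩ : (P : Subgroup G)), (⟨x, hxP⟩ : (P : Subgroup G))⁆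
      with hc
    have hcG : ((c : (P : Subgroup G)) : G) = ⁅r, x⁆ := map_commutatorElement (P : Subgroup G).subtype _ _
    have hcz : ⁅r, x⁆ ∈ Z := hDZ (hmemD r (hRP hr) x hxP)
    have hcx : Commute x ⁅r, x⁆ := (hZcomm _ hcz x hxP).symm
    have hconj : r * x * r⁻¹ = ⁅r, x⁆ * x := by rw [commutatorElement_def]; group
    have hpow : ∀ i : ℤ, r * x ^ i * r⁻¹ = ⁅r, x⁆ ^ i * x ^ i := fun i => by
      rw [← conj_zpow, hconj, hcx.symm.mul_zpow]
    refine ⟨le_antisymm ?_ (zpowers_le.2 (hmemD r (hRP hr) x hxP)), ?_⟩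
    · have hle := commutator_le_of_mem hα hP hr' (M := zpowers c)
        (zpowers_le.2 (commutator_mem_commutator (mem_top _) (mem_top _))) (fun a => ?_)
      · rw [hD]
        refine (Subgroup.map_mono hle).trans ?_
        rw [MonoidHom.map_zpowers]
        exact le_of_eq (congrArg zpowers hcG)
      · obtain ⟨i, hi⟩ := hgen a a.2
        refine mem_zpowers_iff.2 ⟨-i, Subtype.ext ?_⟩
        rw [Subgroup.coe_zpow, hcG]
        have e : ⁅r, (a : G)⁆ = ⁅r, x ^ (-i)⁆ := by
          obtain ⟨s, hs, hse⟩ : ∃ s ∈ R, (a : G) = s * x ^ (-i) :=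
            ⟨_, hi, by rw [mul_assoc, ← zpow_add, add_neg_cancel, zpow_zero, mul_one]⟩
          have h1 : r * s * r⁻¹ = s := by rw [hrR s hs, mul_inv_cancel_right]
          have hz' : ⁅r, x ^ (-i)⁆ ∈ Z :=
            hDZ (hmemD r (hRP hr) _ (zpow_mem hxP _))
          calc ⁅r, (a : G)⁆ = r * s * r⁻¹ * ⁅r, x ^ (-i)⁆ * s⁻¹ := by
                rw [hse, commutatorElement_def, commutatorElement_def]; group
            _ = s * ⁅r, x ^ (-i)⁆ * s⁻¹ := by rw [h1]
            _ = ⁅r, x ^ (-i)⁆ := by rw [← hZcomm _ hz' s (hRP hs), mul_inv_cancel_right]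
        have e2 : ⁅r, x ^ (-i)⁆ = ⁅r, x⁆ ^ (-i) := by
          rw [commutatorElement_def r (x ^ (-i)), hpow, mul_inv_cancel_right]
        rw [← e2, ← e]
        exact (map_commutatorElement (P : Subgroup G).subtype ⟨r, hRP hr⟩ a).symm
    · have h1 : r * x ^ (p : ℤ) * r⁻¹ = x ^ (p : ℤ) := by
        rw [zpow_natCast, hrR _ hxp, mul_inv_cancel_right]
      have h2 := hpow p
      rw [h1, zpow_natCast, zpow_natCast] at h2
      exact mul_eq_right.1 h2.symm
  -- `R` is abelian
  have hRab : ∀ a ∈ R, ∀ b ∈ R, a * b = b * a := by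
    by_cases hcase : ∀ r ∈ R, (∀ s ∈ R, r * s = s * r) → r ∈ Z
    · -- then the centre of `R` is the centre of `P`
      exfalso
      have hZeq : Z = R ⊓ centralizer (R : Set G) := by
        refine le_antisymm (le_inf hZR fun z hz => mem_centralizer_iff.2 fun r hr =>
          (hZcomm z hz r (hRP hr)).symm) ?_
        rintro r ⟨hr, hrc⟩
        exact hcase r hr fun s hs => (mem_centralizer_iff.1 hrc s hs).symm
      haveI : Z.Normal := hZeq ▸ inferInstance
      exact hxR (mem_of_stabilizes hR hC hZR (fun r hr => hDZ (hmemD r (hRP hr) x hxP))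
        fun m hm => hZcomm m hm x hxP)
    · push Not at hcase
      obtain ⟨r, hr, hrc, hrZ⟩ := hcase
      obtain ⟨hDr, hcp⟩ := hkey r hr hrZ hrc
      by_contra hnab
      push Not at hnab
      obtain ⟨a, ha, b, hb, hab⟩ := hnab
      set c := ⁅r, x⁆
      have hd : ⁅a, b⁆ ∈ zpowers c := hDr ▸ hmemD a (hRP ha) b (hRP hb)
      have hd1 : ⁅a, b⁆ ≠ 1 := fun e => hab (commutatorElement_eq_one_iff_mul_comm.1 e)
      have hco : orderOf c = p := orderOf_eq_prime hcp fun e => hd1 (by
        rw [e, zpowers_one_eq_bot, mem_bot] at hd; exact hd)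
      have hRR : ⁅R, R⁆ = D := by
        refine le_antisymm (commutator_le.2 fun s hs t ht => hmemD s (hRP hs) t (hRP ht)) ?_
        rw [hDr]
        have hle : zpowers ⁅a, b⁆ = zpowers c := by
          refine eq_of_le_of_card_ge (zpowers_le.2 hd) (le_of_eq ?_)
          have h1 := Subgroup.card_dvd_of_le (zpowers_le.2 hd)
          rw [Nat.card_zpowers, Nat.card_zpowers, hco] at h1
          rw [Nat.card_zpowers, Nat.card_zpowers, hco]
          exact (((Fact.out : p.Prime).eq_one_or_self_of_dvd _ h1).resolve_left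
            fun e => hd1 (orderOf_eq_one_iff.1 e)).symm
        rw [← hle]
        exact zpowers_le.2 (commutator_mem_commutator ha hb)
      haveI : D.Normal := hRR ▸ inferInstance
      exact hxR (mem_of_stabilizes hR hC (hDZ.trans hZR) (fun s hs => hmemD s (hRP hs) x hxP)
        fun m hm => hZcomm m (hDZ hm) x hxP)
  -- an element of `R` outside the centre
  obtain ⟨r, hr, hrZ⟩ : ∃ r ∈ R, r ∉ Z := by
    by_contra h
    push Not at h
    haveI : Z.Normal := (le_antisymm hZR h : Z = R) ▸ inferInstance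
    exact hxR (mem_of_stabilizes hR hC hZR (fun r hr => hDZ (hmemD r (hRP hr) x hxP))
      fun m hm => hZcomm m hm x hxP)
  obtain ⟨hDr, hcp⟩ := hkey r hr hrZ (hRab r hr)
  -- orders
  set S := (P : Subgroup G)
  set C := center (P : Subgroup G) with hCdef
  have hCD : Z = D := le_antisymm (Subgroup.map_mono (center_le_commutator hα hP hnc)) hDZ
  have hZ1 : ∀ z ∈ Z, z ^ p = 1 := by
    rw [hCD, hDr]
    intro z hz
    obtain ⟨i, rfl⟩ := mem_zpowers_iff.1 hz
    rw [← zpow_natCast, ← zpow_mul, mul_comm, zpow_mul, zpow_natCast, hcp, one_zpow]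
  have hZcard : Nat.card Z = p := by
    rw [hCD, hDr, Nat.card_zpowers]
    refine orderOf_eq_prime hcp fun e => ?_
    apply hnc
    have hbot : D = ⊥ := by rw [hDr, e, zpowers_one_eq_bot]
    rw [eq_top_iff]
    intro a _
    rw [mem_center_iff]
    intro b
    have := hmemD b b.2 a a.2
    rw [hbot, mem_bot, commutatorElement_eq_one_iff_mul_comm] at this
    exact Subtype.ext this
  -- the map `R → Z`, `s ↦ [s, x]`, has kernel in `Z`
  have hker : ∀ s ∈ R, ⁅s, x⁆ = 1 → s ∈ Z := by
    intro s hs hsx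
    refine ⟨⟨s, hRP hs⟩, mem_center_iff.2 fun a => Subtype.ext ?_, rfl⟩
    obtain ⟨i, hi⟩ := hgen a a.2
    show (a : G) * s = s * a
    rw [commutatorElement_eq_one_iff_mul_comm] at hsx
    have h1 : Commute s (x ^ (-i)) := (show Commute s x from hsx).zpow_right _
    have h2 : Commute s ((a : G) * x ^ i) := hRab s hs _ hi
    have h3 := h2.mul_right h1
    rw [mul_assoc, ← zpow_add, add_neg_cancel, zpow_zero, mul_one] at h3
    exact h3.eq.symm
  have hcardR : Nat.card R = p ^ 2 := by
    let f : R → Z := fun s => ⟨⁅(s : G), x⁆, hDZ (hmemD s (hRP s.2) x hxP)⟩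
    have hfmul : ∀ s t : R, f (s * t) = f s * f t := fun s t => Subtype.ext (by
      have hz := hDZ (hmemD (t : G) (hRP t.2) x hxP)
      show ⁅(s : G) * t, x⁆ = ⁅(s : G), x⁆ * ⁅(t : G), x⁆
      calc ⁅(s : G) * t, x⁆ = (s : G) * ⁅(t : G), x⁆ * (s : G)⁻¹ * ⁅(s : G), x⁆ := by
            simp only [commutatorElement_def]; group
        _ = ⁅(t : G), x⁆ * ⁅(s : G), x⁆ := by rw [← hZcomm _ hz s (hRP s.2), mul_inv_cancel_right]
        _ = ⁅(s : G), x⁆ * ⁅(t : G), x⁆ :=
            hZcomm _ hz _ (hRP (hZR (hDZ (hmemD (s : G) (hRP s.2) x hxP)))))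
    let F : R →* Z := MonoidHom.mk' f hfmul
    have hle : F.ker = Z.subgroupOf R := by
      refine le_antisymm ?_ ?_
      · intro s hs
        exact hker s s.2 (congrArg Subtype.val hs)
      intro s hs
      refine Subtype.ext ?_
      show ⁅(s : G), x⁆ = 1
      exact commutatorElement_eq_one_iff_mul_comm.2 (hZcomm s hs x hxP)
    have hsurj : Function.Surjective F := by
      rw [← MonoidHom.range_eq_top]
      refine eq_top_of_card_eq _ ?_
      have h1 := Subgroup.card_subgroup_dvd_card F.range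
      rw [hZcard] at h1
      rcases (Fact.out : p.Prime).eq_one_or_self_of_dvd _ h1 with e | e
      · exfalso
        have := Subgroup.card_eq_one.1 e
        rw [MonoidHom.range_eq_bot_iff] at this
        exact hrZ (hker r hr (congrArg Subtype.val (DFunLike.congr_fun this (⟨r, hr⟩ : R))))
      · rw [e, hZcard]
    have h1 := F.ker.card_mul_index
    rw [Subgroup.index_ker, MonoidHom.range_eq_top.2 hsurj, Subgroup.card_top, hZcard, hle,
      Nat.card_congr (subgroupOfEquivOfLe hZR).toEquiv, hZcard] at h1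
    rw [← h1, pow_two]
  have hcardP : Nat.card S = p ^ 3 := by
    have hmap : S.map (QuotientGroup.mk' R) = zpowers (QuotientGroup.mk' R x) := by
      refine le_antisymm ?_ (zpowers_le.2 ⟨x, hxP, rfl⟩)
      rintro _ ⟨a, ha, rfl⟩
      obtain ⟨i, hi⟩ := hgen a ha
      refine mem_zpowers_iff.2 ⟨-i, ?_⟩
      rw [← map_zpow, QuotientGroup.mk'_apply, QuotientGroup.mk'_apply, QuotientGroup.eq]
      have e : (x ^ (-i))⁻¹ * a = x ^ i * ((a * x ^ i) * (x ^ i)⁻¹) := by group
      rw [e, ← mul_assoc]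
      exact (inferInstance : R.Normal).conj_mem _ hi _
    have hord : orderOf (QuotientGroup.mk' R x) = p := by
      refine orderOf_eq_prime ?_ fun e => hxR ((QuotientGroup.eq_one_iff x).1 e)
      rw [← map_pow]
      exact (QuotientGroup.eq_one_iff _).2 hxp
    have h1 := Subgroup.card_mul_index ((QuotientGroup.mk' R).subgroupMap S).ker
    rw [Subgroup.index_ker, MonoidHom.range_eq_top.2 ((QuotientGroup.mk' R).subgroupMap_surjective S),
      Subgroup.card_top] at h1
    rw [show Nat.card (S.map (QuotientGroup.mk' R)) = p by rw [hmap, Nat.card_zpowers, hord]] at h1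
    have hk : ((QuotientGroup.mk' R).subgroupMap S).ker = R.subgroupOf S := by
      ext a
      rw [MonoidHom.mem_ker, mem_subgroupOf, ← QuotientGroup.eq_one_iff]
      exact ⟨fun e => congrArg Subtype.val e, fun e => Subtype.ext e⟩
    rw [hk, Nat.card_congr (subgroupOfEquivOfLe hRP).toEquiv, hcardR] at h1
    rw [← h1]; ring
  have hquot : Nat.card (S ⧸ C) = p ^ 2 := by
    have h1 := card_eq_card_quotient_mul_card_subgroup C
    have hCc : Nat.card C = p := by
      exact (Subgroup.card_map_of_injective (K := C) (Subgroup.subtype_injective _)).symm.trans hZcard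
    rw [hcardP, hCc] at h1
    exact Nat.eq_of_mul_eq_mul_right (Fact.out : p.Prime).pos (h1.symm.trans (by ring))
  refine false_of_config hα hP hquot (R := R.subgroupOf S) ?_ ?_ (r := ⟨r, hRP hr⟩) hr
    (fun h => hrZ ⟨_, h, rfl⟩) ?_ hp23
  · intro e
    exact hxR (subgroupOf_eq_top.1 e hxP)
  · exact fun z hz => hZR ⟨z, hz, rfl⟩
  · rintro hp2 ⟨t, htS⟩ ht
    apply Subtype.ext
    show t * t = 1
    by_contra ht2
    have htR : t ∈ R := ht
    -- otherwise `R` is cyclic and all commutators centralize it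
    have hto : orderOf t = 4 := by
      have h4 : orderOf t ∣ 2 ^ 2 := by
        rw [show (2 : ℕ) ^ 2 = p ^ 2 by rw [hp2], ← hcardR]
        have := orderOf_dvd_natCard (⟨t, htR⟩ : R)
        rwa [Subgroup.orderOf_mk] at this
      obtain ⟨j, hj, hj'⟩ := (Nat.dvd_prime_pow Nat.prime_two).1 h4
      interval_cases j
      · simp at hj'; simp [hj'] at ht2
      · rw [pow_one] at hj'
        exact absurd (by rw [← pow_two, ← hj', pow_orderOf_eq_one]) ht2
      · simpa using hj'
    have hRt : R = zpowers t :=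
      (eq_of_le_of_card_ge (zpowers_le.2 htR) (by rw [Nat.card_zpowers, hto, hcardR, hp2]; norm_num)).symm
    have hconj : ∀ g : G, ∃ i : ℤ, g * t * g⁻¹ = t ^ i := fun g => by
      have := (inferInstance : R.Normal).conj_mem t htR g
      rw [hRt] at this
      obtain ⟨i, hi⟩ := mem_zpowers_iff.1 this
      exact ⟨i, hi.symm⟩
    have hab : ∀ g h : G, ⁅g, h⁆ ∈ R := by
      intro g h
      refine hC (mem_centralizer_iff.2 fun s hs => ?_)
      rw [hRt] at hs
      obtain ⟨k, rfl⟩ := mem_zpowers_iff.1 hs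
      refine (Commute.zpow_left ?_ k).eq
      obtain ⟨i, hi⟩ := hconj g
      obtain ⟨j, hj⟩ := hconj h
      have hgh : g * h * t * (g * h)⁻¹ = h * g * t * (h * g)⁻¹ := by
        calc g * h * t * (g * h)⁻¹ = g * (h * t * h⁻¹) * g⁻¹ := by group
          _ = (g * t * g⁻¹) ^ j := by rw [hj, conj_zpow]
          _ = (h * t * h⁻¹) ^ i := by rw [hi, hj, ← zpow_mul, ← zpow_mul, mul_comm]
          _ = h * (g * t * g⁻¹) * h⁻¹ := by rw [hi, conj_zpow]
          _ = h * g * t * (h * g)⁻¹ := by group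
      obtain ⟨a, ha⟩ := hconj g⁻¹
      obtain ⟨b, hb⟩ := hconj h⁻¹
      have key : ⁅g, h⁆ * t * ⁅g, h⁆⁻¹ = t := by
        calc ⁅g, h⁆ * t * ⁅g, h⁆⁻¹
            = g * h * (g⁻¹ * (h⁻¹ * t * h⁻¹⁻¹) * g⁻¹⁻¹) * (g * h)⁻¹ := by
              rw [commutatorElement_def]; group
          _ = (g * h * t * (g * h)⁻¹) ^ (a * b) := by
              rw [hb, ← conj_zpow (a := g⁻¹), ha, ← zpow_mul, conj_zpow]
          _ = (h * g * t * (h * g)⁻¹) ^ (a * b) := by rw [hgh]
          _ = h * g * (g⁻¹ * (h⁻¹ * t * h⁻¹⁻¹) * g⁻¹⁻¹) * (h * g)⁻¹ := by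
              rw [hb, ← conj_zpow (a := g⁻¹), ha, ← zpow_mul, conj_zpow]
          _ = t := by group
      exact (mul_inv_eq_iff_eq_mul.1 key).symm
    haveI hPn : S.Normal := ⟨fun s hs g => by
      have := mul_mem (hRP (hab g s)) hs
      rwa [commutatorElement_def, inv_mul_cancel_right] at this⟩
    exact hxR (Core.le_pCore hPn hP hxP)

/-- The Sylow subgroup is normal. -/
theorem normal_of_schmidtAut : ∀ (n : ℕ) {G : Type u} [Group G] [Finite G], Nat.card G = n →
    IsPSolvable p G → pPrimeCore p G = ⊥ → ∀ P : Sylow p G,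
    (∃ α : MulAut (P : Subgroup G), SchmidtAut p α) → (P : Subgroup G) ≤ pCore p G := by
  intro n
  induction n using Nat.strong_induction_on with
  | _ n ih =>
  intro G _ _ hn hG h0 P hPα
  obtain ⟨α, hα⟩ := hPα
  by_contra hnot
  set R := pCore p G with hR
  have hC : centralizer (R : Set G) ≤ R := Core.centralizer_pCore_le hG h0
  have hRP : R ≤ P := Core.pCore_le_sylow P
  have hRp : IsPGroup p R := Core.isPGroup_pCore p G
  set π := QuotientGroup.mk' R with hπ
  set E := (P : Subgroup G).map π with hE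
  have hcomapE : E.comap π = P := by
    rw [hE, Subgroup.comap_map_eq, hπ, QuotientGroup.ker_mk', sup_eq_left.2 hRP]
  have hEp : IsPGroup p E := P.isPGroup'.map π
  have hEne : E ≠ ⊥ := fun e => hnot (by
    rw [← hcomapE, e, MonoidHom.comap_bot, hπ, QuotientGroup.ker_mk'])
  have hRbar : pCore p (G ⧸ R) = ⊥ := Core.pCore_quotient_pCore p G
  have hQs : IsPSolvable p (G ⧸ R) := Core.isPSolvable_quotient hG R
  set K := pPrimeCore p (G ⧸ R) with hK
  have hKC : centralizer (K : Set (G ⧸ R)) ≤ K := by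
    rw [hK, Core.pPrimeCore_eq_piCore]
    refine Core.centralizer_piCore_le
      (Core.isPiSeparable_compl (Core.isPiSeparable_of_isPSolvable hQs)) ?_
    rw [compl_compl, ← Core.pCore_eq_piCore]
    exact hRbar
  have hEK : E ⊓ K = ⊥ := by
    obtain ⟨k, hk⟩ := IsPGroup.iff_card.1 hEp
    exact Subgroup.inf_eq_bot_of_coprime (by
      rw [hk]; exact ((Core.card_pPrimeCore_coprime p (G ⧸ R)).pow_right k).symm)
  have hcopEK : (Nat.card E).Coprime (Nat.card K) := by
    obtain ⟨k, hk⟩ := IsPGroup.iff_card.1 hEp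
    rw [hk]; exact ((Core.card_pPrimeCore_coprime p (G ⧸ R)).pow_right k).symm
  haveI : Group.IsSolvable E := Coprime.isSolvable_of_isPGroup hEp
  have hEKn : E ≤ normalizer (K : Set (G ⧸ R)) := by rw [normalizer_eq_top]; exact le_top
  -- a proper invariant subgroup is centralized
  have hprop : ∀ C : Subgroup (G ⧸ R), C ≤ K → E ≤ normalizer (C : Set (G ⧸ R)) → C ⊔ E ≠ ⊤ →
      C ≤ centralizer (E : Set (G ⧸ R)) := by
    intro C hCK hEC hne
    set H := (C ⊔ E).comap π with hH
    have hHtop : H ≠ ⊤ := fun e => hne (by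
      rw [← Subgroup.map_comap_eq_self_of_surjective (f := π) (QuotientGroup.mk'_surjective R) (C ⊔ E),
        ← hH, e, Subgroup.map_top_of_surjective _ (QuotientGroup.mk'_surjective R)])
    have hPH : (P : Subgroup G) ≤ H := hcomapE ▸ Subgroup.comap_mono le_sup_right
    have hlt : Nat.card H < n := hn ▸ lt_of_le_of_ne (Subgroup.card_le_card_group H)
      fun e => hHtop (eq_top_of_card_eq H e)
    have hle := ih _ hlt rfl (Core.isPSolvable_subgroup hG H)
      (pPrimeCore_eq_bot_of_le hRp hC (hRP.trans hPH)) (P.subtype hPH)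
      ⟨_, hα.congr ((subgroupOfEquivOfLe hPH).symm.trans
        (MulEquiv.subgroupCongr (Sylow.coe_subtype P hPH).symm))⟩
    have hnorm : H ≤ normalizer ((P : Subgroup G) : Set G) := by
      intro h hh
      rw [mem_normalizer_iff_map_conj_eq]
      refine eq_of_le_of_card_ge ?_ (le_of_eq (Subgroup.card_map_of_injective (MulAut.conj h).injective).symm)
      rintro _ ⟨a, ha, rfl⟩
      have hpe : pCore p H = (P.subtype hPH : Subgroup H) :=
        le_antisymm (Core.pCore_le_sylow _) hle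
      have hmem : (⟨a, hPH ha⟩ : H) ∈ pCore p H := hpe ▸ ha
      have := (inferInstance : (pCore p H).Normal).conj_mem _ hmem ⟨h, hh⟩
      rw [hpe] at this
      exact this
    intro c hc
    rw [mem_centralizer_iff]
    intro e he
    obtain ⟨g, rfl⟩ := QuotientGroup.mk'_surjective R c
    have hgH : g ∈ H := Subgroup.mem_comap.2 (Subgroup.mem_sup_left hc)
    have hcE : π g ∈ normalizer (E : Set (G ⧸ R)) :=
      Subgroup.le_normalizer_map _ ⟨g, hnorm hgH, rfl⟩
    have h1 : ⁅π g, e⁆ ∈ E := mul_mem ((mem_normalizer_iff.1 hcE e).1 he) (inv_mem he)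
    have h2 : ⁅π g, e⁆ ∈ K := hCK (by
      rw [show ⁅π g, e⁆ = π g * (e * (π g)⁻¹ * e⁻¹) by rw [commutatorElement_def]; group]
      exact mul_mem hc ((mem_normalizer_iff.1 (hEC he) _).1 (inv_mem hc)))
    have h3 : ⁅π g, e⁆ = 1 := mem_bot.1 (hEK ▸ Subgroup.mem_inf.2 ⟨h1, h2⟩)
    exact (commutatorElement_eq_one_iff_mul_comm.1 h3).symm
  -- some invariant Sylow subgroup of `K` generates with `E`
  obtain ⟨t, ht, Q, hQK, hQE, hQtop⟩ : ∃ t : ℕ, t.Prime ∧ ∃ Q : Subgroup (G ⧸ R), Q ≤ K ∧
      E ≤ normalizer (Q : Set (G ⧸ R)) ∧ Q ⊔ E = ⊤ := by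
    by_contra hno
    push Not at hno
    have hle : K ≤ centralizer (E : Set (G ⧸ R)) :=
      Coprime.le_of_forall_invariant_sylow fun t ht => by
        haveI := Fact.mk ht
        obtain ⟨Q, hQK, -, hQi, hQE⟩ := Coprime.exists_invariant_sylow hEKn hcopEK t
        exact ⟨Q, hQK, hprop Q hQK hQE (hno t ht Q hQK hQE), hQi⟩
    apply hEne
    rw [eq_bot_iff, ← hEK]
    refine le_inf le_rfl (le_trans (fun e he => ?_) hKC)
    exact mem_centralizer_iff.2 fun k hk => (mem_centralizer_iff.1 (hle hk) e he).symm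
  have hQn : Q.Normal := by
    rw [← normalizer_eq_top_iff, eq_top_iff, ← hQtop]
    exact sup_le le_normalizer hQE
  have hEcomm : ∀ a b : G ⧸ R, a ∈ E → b ∈ E → a * b = b * a := by
    rintro _ _ ⟨a, ha, rfl⟩ ⟨b, hb, rfl⟩
    rw [← commutatorElement_eq_one_iff_mul_comm, ← map_commutatorElement, ← MonoidHom.mem_ker, hπ,
      QuotientGroup.ker_mk']
    refine hC (mem_centralizer_iff.2 fun r hr => ?_)
    have h1 := commutator_le_center hα P.isPGroup'
      (commutator_mem_commutator (mem_top (⟨a, ha⟩ : (P : Subgroup G))) (mem_top ⟨b, hb⟩))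
    exact congrArg Subtype.val (mem_center_iff.1 h1 ⟨r, hRP hr⟩)
  haveI : IsMulCommutative E := ⟨⟨fun a b => Subtype.ext (hEcomm a b a.2 b.2)⟩⟩
  have hfaith : E ⊓ centralizer (Q : Set (G ⧸ R)) = ⊥ := by
    have hn' : (E ⊓ centralizer (Q : Set (G ⧸ R))).Normal := by
      rw [← normalizer_eq_top_iff, eq_top_iff, ← hQtop]
      refine sup_le ?_ ?_
      · intro g hg
        refine Subgroup.centralizer_le_normalizer _ (mem_centralizer_iff.2 fun h hh => ?_)
        exact (mem_centralizer_iff.1 (Subgroup.mem_inf.1 hh).2 g hg).symm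
      · intro g hg
        refine Subgroup.centralizer_le_normalizer _ (mem_centralizer_iff.2 fun h hh => ?_)
        exact hEcomm h g (Subgroup.mem_inf.1 hh).1 hg
    rw [eq_bot_iff, ← hRbar]
    exact Core.le_pCore hn' (hEp.to_le inf_le_left)
  have hcopEQ : (Nat.card E).Coprime (Nat.card Q) := hcopEK.coprime_dvd_right (card_dvd_of_le hQK)
  have hcyc : IsCyclic E := by
    by_contra hnc
    have hjoin := Coprime.eq_centralizerJoin hnc hQE hcopEQ
    apply hEne
    rw [eq_bot_iff, ← hfaith]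
    refine le_inf le_rfl fun e he => mem_centralizer_iff.2 fun q hq => ?_
    have hle : Coprime.centralizerJoin Q E ≤ centralizer (E : Set (G ⧸ R)) := by
      refine iSup_le fun a => hprop _ (inf_le_left.trans hQK) ?_ ?_
      · refine (le_inf hQE ?_).trans Subgroup.inf_normalizer_le_normalizer_inf
        intro g hg
        rw [mem_normalizer_iff_map_conj_eq]
        refine eq_of_le_of_card_ge ?_
          (le_of_eq (Subgroup.card_map_of_injective (MulAut.conj g).injective).symm)
        rintro _ ⟨c, hc, rfl⟩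
        rw [SetLike.mem_coe, mem_centralizer_singleton_iff] at hc
        rw [mem_centralizer_singleton_iff]
        show g * c * g⁻¹ * (a : G ⧸ R) = (a : G ⧸ R) * (g * c * g⁻¹)
        have hga : g * (a : G ⧸ R) * g⁻¹ = a := by
          rw [hEcomm g a hg a.2.1, mul_inv_cancel_right]
        calc g * c * g⁻¹ * (a : G ⧸ R) = g * c * g⁻¹ * (g * (a : G ⧸ R) * g⁻¹) := by rw [hga]
          _ = g * (c * a) * g⁻¹ := by group
          _ = g * ((a : G ⧸ R) * c) * g⁻¹ := by rw [hc]
          _ = (g * (a : G ⧸ R) * g⁻¹) * (g * c * g⁻¹) := by group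
          _ = (a : G ⧸ R) * (g * c * g⁻¹) := by rw [hga]
      · intro e'
        have hd : Q ⊓ centralizer {(a : G ⧸ R)} = Q := by
          refine eq_of_le_of_card_ge inf_le_left ?_
          have h1 := (Coprime.card_sup hQE (Subgroup.inf_eq_bot_of_coprime hcopEQ.symm))
          rw [hQtop] at h1
          have h2 : Nat.card (Q ⊓ centralizer {(a : G ⧸ R)} ⊔ E : Subgroup (G ⧸ R)) ≤
              Nat.card (Q ⊓ centralizer {(a : G ⧸ R)} : Subgroup (G ⧸ R)) * Nat.card E := by
            have hEn' : E ≤ normalizer ((Q ⊓ centralizer {(a : G ⧸ R)} : Subgroup (G ⧸ R)) : Set (G ⧸ R)) := by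
              refine (le_inf hQE ?_).trans Subgroup.inf_normalizer_le_normalizer_inf
              intro g hg
              refine Subgroup.le_normalizer ?_
              exact mem_centralizer_singleton_iff.2 (hEcomm g a hg a.2.1)
            rw [Coprime.card_sup hEn' (Subgroup.inf_eq_bot_of_coprime
              (hcopEQ.symm.coprime_dvd_left (card_dvd_of_le inf_le_left)))]
          rw [e', h1] at h2
          exact Nat.le_of_mul_le_mul_right h2 Nat.card_pos
        refine a.2.2 (mem_bot.1 (hfaith ▸ Subgroup.mem_inf.2 ⟨a.2.1, mem_centralizer_iff.2 fun q hq => ?_⟩))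
        rw [← hd] at hq
        exact mem_centralizer_singleton_iff.1 (Subgroup.mem_inf.1 hq).2
    rw [hjoin] at hle
    exact (mem_centralizer_iff.1 (hle hq) e he).symm
  obtain ⟨⟨e, x, hx, rfl⟩, hgen⟩ := hcyc.exists_generator
  refine false_of_core hG h0 P hα hx (fun hxR => hEne ?_) ?_ fun a ha => ?_
  · rw [eq_bot_iff]
    intro z hz
    obtain ⟨i, hi⟩ := mem_zpowers_iff.1 (hgen ⟨z, hz⟩)
    have := congrArg Subtype.val hi
    simp only [Subgroup.coe_zpow] at this
    rw [mem_bot, ← this, show π x = 1 from (QuotientGroup.eq_one_iff x).2 hxR, one_zpow]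
  · refine hC (mem_centralizer_iff.2 fun r hr => ?_)
    exact congrArg Subtype.val
      (mem_center_iff.1 (pow_mem_center hα P.isPGroup' ⟨x, hx⟩) ⟨r, hRP hr⟩)
  · obtain ⟨i, hi⟩ := mem_zpowers_iff.1 (hgen ⟨π a, ⟨a, ha, rfl⟩⟩)
    have h1 : π x ^ i = π a := congrArg Subtype.val hi
    refine ⟨-i, ?_⟩
    rw [← QuotientGroup.eq_one_iff]
    show π (a * x ^ (-i)) = 1
    rw [map_mul, map_zpow, ← h1, ← zpow_add, add_neg_cancel, zpow_zero]

/-- The statement on the `p`-length. -/
theorem pLengthLE_one {G : Type*} [Group G] [Finite G] (hG : IsPSolvable p G) (P : Sylow p G)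
    (hP : ∃ α : MulAut (P : Subgroup G), SchmidtAut p α) : PLengthLE p 1 G := by
  rw [← Core.pLengthLE_quotient_pPrimeCore_iff]
  set π := QuotientGroup.mk' (pPrimeCore p G) with hπ
  have hinj : Function.Injective (π.subgroupMap (P : Subgroup G)) := by
    rw [← MonoidHom.ker_eq_bot_iff, eq_bot_iff]
    rintro ⟨a, ha⟩ hmem
    have h1 : a ∈ pPrimeCore p G := (QuotientGroup.eq_one_iff a).1 (congrArg Subtype.val hmem)
    obtain ⟨k, hk⟩ := P.isPGroup' ⟨a, ha⟩
    refine Subgroup.mem_bot.2 (Subtype.ext (orderOf_eq_one_iff.1 ?_))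
    exact Nat.eq_one_of_dvd_coprimes ((Core.card_pPrimeCore_coprime p G).pow_right k)
      (Subgroup.orderOf_dvd_natCard _ h1) (orderOf_dvd_of_pow_eq_one (congrArg Subtype.val hk))
  let P' := P.mapSurjective (QuotientGroup.mk'_surjective (pPrimeCore p G))
  let e : (P : Subgroup G) ≃* (P' : Subgroup (G ⧸ pPrimeCore p G)) :=
    (MulEquiv.ofBijective (π.subgroupMap (P : Subgroup G))
      ⟨hinj, π.subgroupMap_surjective _⟩).trans (MulEquiv.subgroupCongr (Sylow.coe_mapSurjective _ P).symm)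
  obtain ⟨α, hα⟩ := hP
  have h0 := Core.pPrimeCore_quotient_pPrimeCore p G
  have hle := normal_of_schmidtAut _ rfl (Core.isPSolvable_quotient hG _) h0 P' ⟨_, hα.congr e⟩
  rw [Core.pLengthLE_one_iff, Core.pPrimePCore_eq_pCore h0, Nat.coprime_comm,
    (Fact.out : p.Prime).coprime_iff_not_dvd]
  exact fun h => P'.not_dvd_index (h.trans (Subgroup.index_dvd_of_le hle))

end Cfsg.Agent.FGS4.SchmidtSylow
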